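import Mathlib.LinearAlgebra.Matrix.SpecialLinearGroup
import Mathlib.LinearAlgebra.Matrix.ProjectiveSpecialLinearGroup
import Mathlib.LinearAlgebra.Matrix.Transvection
import Mathlib.GroupTheory.GroupAction.Quotient
import Mathlib.Algebra.Field.ZMod

/-!
# Interfaces of the 3-local recognition of `PSL(4,3)` and of its parabolic subgroup `3^3:SL(3,3)`

`z0` is a root element (the centre of a Sylow 3-subgroup), `p0` the product of two commuting root elements
of opposite frames, `t0` the involution `diag(-1,-1,1,1)`.  An embedding records that the centralizer of `z0`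
lies in the image and that the class of `z0` meets the image in one class.
-/

set_option autoImplicit false

namespace Cfsg.Agent.LFourThree

open Matrix

/-- The model. -/
abbrev L43 := Matrix.ProjectiveSpecialLinearGroup (Fin 4) (ZMod 3)

/-- The special linear group above the model. -/
abbrev SL43 := Matrix.SpecialLinearGroup (Fin 4) (ZMod 3)

/-- The projection. -/
def proj : SL43 →* L43 := QuotientGroup.mk' _

/-- A root element. -/
def root (i j : Fin 4) (h : i ≠ j) (a : ZMod 3) : SL43 :=
  ⟨Matrix.transvection i j a, Matrix.det_transvection_of_ne i j h a⟩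

/-- A central element of a Sylow 3-subgroup. -/
def z0 : L43 := proj (root 0 3 (by decide) 1)

/-- The product of two commuting root elements. -/
def p0 : L43 := proj (root 0 2 (by decide) 1 * root 1 3 (by decide) 1)

/-- The involution `diag(-1,-1,1,1)`. -/
def t0 : L43 := proj ⟨Matrix.diagonal ![-1, -1, 1, 1], by
  rw [Matrix.det_diagonal, Fin.prod_univ_four]; decide⟩

/-- The stabilizer of the first coordinate line. -/
def pointStabSL : Subgroup SL43 where
  carrier := {A | ∀ i : Fin 4, i ≠ 0 → A.val i 0 = 0}
  one_mem' i hi := by
    show (1 : Matrix (Fin 4) (Fin 4) (ZMod 3)) i 0 = 0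
    exact Matrix.one_apply_ne hi
  mul_mem' {A B} hA hB i hi := by
    show (A.val * B.val) i 0 = 0
    rw [Matrix.mul_apply]
    refine Finset.sum_eq_zero fun k _ => ?_
    by_cases hk : k = 0
    · rw [hk, hA i hi, zero_mul]
    · rw [hB k hk, mul_zero]
  inv_mem' {A} hA i hi := by
    show (A⁻¹ : SL43).val i 0 = 0
    have h : ((A⁻¹ : SL43).val * A.val) i 0 = 0 := by
      rw [← Matrix.SpecialLinearGroup.coe_mul, inv_mul_cancel, Matrix.SpecialLinearGroup.coe_one,
        Matrix.one_apply_ne hi]
    rw [Matrix.mul_apply, Finset.sum_eq_single (0 : Fin 4) (fun k _ hk => by rw [hA k hk, mul_zero])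
      (fun h0 => absurd (Finset.mem_univ _) h0)] at h
    refine (mul_eq_zero.1 h).resolve_right fun h00 => ?_
    have hd := A.prop
    rw [Matrix.det_eq_zero_of_column_eq_zero (0 : Fin 4) (fun k => by
      by_cases hk : k = 0
      · rw [hk]; exact h00
      · exact hA k hk)] at hd
    exact zero_ne_one hd

/-- The parabolic subgroup `3^3:SL(3,3)`. -/
def pointStab : Subgroup L43 := pointStabSL.map proj

/-- The situation of the second case: a copy of the model around the centralizer of a root element. -/
structure Emb (G : Type*) [Group G] where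
  /-- The embedding. -/
  ψ : L43 →* G
  inj : Function.Injective ψ
  cent : Subgroup.centralizer ({ψ z0} : Set G) ≤ ψ.range
  fus : ∀ h : L43, IsConj (ψ z0) (ψ h) → IsConj z0 h

/-- The situation of the first case: a copy of the parabolic subgroup around the centralizer of a root
element, whose conjugates meet it only in its normal subgroup of order `27`. -/
structure PointEmb (G : Type*) [Group G] where
  /-- The embedding. -/
  φ : pointStab →* G
  inj : Function.Injective φ
  memZ : z0 ∈ pointStab
  cent : Subgroup.centralizer ({φ ⟨z0, memZ⟩} : Set G) ≤ φ.range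
  fus : ∀ h : pointStab, IsConj (φ ⟨z0, memZ⟩) (φ h) → IsConj (⟨z0, memZ⟩ : pointStab) h

end Cfsg.Agent.LFourThree
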