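import Cfsg.Agent.Lib.LFourThree.Base
import Mathlib.GroupTheory.Sylow

/-!
# Isolated elements of the image of the model

`Iso H a` says that `g * a * g⁻¹ ∈ H` only for `g ∈ H`: for `a ∈ H` this means that `a` fixes exactly one
coset of `H`.  Root elements are isolated in the image of an embedding.
-/

set_option autoImplicit false

namespace Cfsg.Agent.LFourThree

open Subgroup

variable {G : Type*} [Group G]

/-- `a` is moved out of `H` by every element outside `H`. -/
def Iso (H : Subgroup G) (a : G) : Prop := ∀ g : G, g * a * g⁻¹ ∈ H → g ∈ H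

namespace Iso

variable {H : Subgroup G} {a : G}

theorem centralizer_le (h : Iso H a) (ha : a ∈ H) : centralizer ({a} : Set G) ≤ H := fun g hg =>
  h g (by rwa [mem_centralizer_singleton_iff.1 hg, mul_inv_cancel_right])

theorem conj (h : Iso H a) {k : G} (hk : k ∈ H) : Iso H (k * a * k⁻¹) := fun g hg => by
  have h1 : g * k ∈ H := h (g * k) (by
    rwa [show g * k * a * (g * k)⁻¹ = g * (k * a * k⁻¹) * g⁻¹ by group])
  simpa using H.mul_mem h1 (H.inv_mem hk)

theorem inv (h : Iso H a) : Iso H a⁻¹ := fun g hg => h g (by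
  have := H.inv_mem hg
  rwa [show (g * a⁻¹ * g⁻¹)⁻¹ = g * a * g⁻¹ by group] at this)

/-- A subgroup of `H` containing an isolated element has its normalizer in `H`. -/
theorem normalizer_le (h : Iso H a) {R : Subgroup G} (haR : a ∈ R) (hR : R ≤ H) :
    normalizer (R : Set G) ≤ H := fun g hg =>
  h g (hR ((mem_normalizer_iff.1 hg a).1 haR))

/-- The same inside a subgroup. -/
theorem mem_of_mem {X : Subgroup G} (h : Iso H a) {g : G} (hg : g ∈ X)
    (hga : g * a * g⁻¹ ∈ H) : g ∈ X ⊓ H :=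
  ⟨hg, h g hga⟩

end Iso

/-- An element of `H` conjugate in `H` to all its conjugates inside `H`, and with centralizer in `H`, is
isolated. -/
theorem iso_of_centralizer_le {H : Subgroup G} {a : G} (hc : centralizer ({a} : Set G) ≤ H)
    (hf : ∀ g : G, g * a * g⁻¹ ∈ H → ∃ k ∈ H, k * a * k⁻¹ = g * a * g⁻¹) : Iso H a := fun g hg => by
  obtain ⟨k, hk, he⟩ := hf g hg
  have h1 : k⁻¹ * g ∈ H := hc (mem_centralizer_singleton_iff.2 (by
    calc k⁻¹ * g * a = k⁻¹ * (g * a * g⁻¹) * g := by group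
      _ = k⁻¹ * (k * a * k⁻¹) * g := by rw [he]
      _ = a * (k⁻¹ * g) := by group))
  simpa using H.mul_mem hk h1

namespace Emb

variable (E : Emb G)

/-- A conjugate in the model is a conjugate inside the image. -/
theorem exists_of_isConj {x y : L43} (h : IsConj x y) :
    ∃ k ∈ E.ψ.range, k * E.ψ x * k⁻¹ = E.ψ y := by
  obtain ⟨c, hc⟩ := isConj_iff.1 h
  exact ⟨E.ψ c, ⟨c, rfl⟩, by rw [← map_inv, ← map_mul, ← map_mul, hc]⟩

theorem iso_of_isConj {x y : L43} (h : IsConj x y) (hx : Iso E.ψ.range (E.ψ x)) :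
    Iso E.ψ.range (E.ψ y) := by
  obtain ⟨k, hk, he⟩ := E.exists_of_isConj h
  exact he ▸ hx.conj hk

/-- A root element fixes one coset of the image. -/
theorem iso_z0 : Iso E.ψ.range (E.ψ z0) :=
  iso_of_centralizer_le E.cent fun g hg => by
    obtain ⟨h, hh⟩ := hg
    obtain ⟨k, hk, he⟩ := E.exists_of_isConj (E.fus h (isConj_iff.2 ⟨g, hh.symm⟩))
    exact ⟨k, hk, he.trans hh⟩

theorem iso_root {y : L43} (h : IsConj z0 y) : Iso E.ψ.range (E.ψ y) :=
  E.iso_of_isConj h E.iso_z0

theorem centralizer_root_le {y : L43} (h : IsConj z0 y) :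
    centralizer ({E.ψ y} : Set G) ≤ E.ψ.range :=
  (E.iso_root h).centralizer_le ⟨y, rfl⟩

/-- An automorphism of the model sending `z0` into its class or inverse gives another embedding. -/
def twist (σ : MulAut L43) (hσ : IsConj z0 (σ z0)) : Emb G where
  ψ := E.ψ.comp σ.toMonoidHom
  inj := E.inj.comp σ.injective
  cent := by
    rintro g hg
    obtain ⟨h, hh⟩ := E.centralizer_root_le hσ hg
    exact ⟨σ.symm h, by simpa using hh⟩
  fus := fun h hc => by
    have h0 : IsConj (E.ψ z0) (E.ψ (σ z0)) := E.ψ.map_isConj hσ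
    have h1 : IsConj z0 (σ h) := E.fus (σ h) (h0.trans hc)
    have h2 : IsConj (σ z0) (σ h) := hσ.symm.trans h1
    simpa using σ.symm.toMonoidHom.map_isConj h2

theorem twist_range (σ : MulAut L43) (hσ : IsConj z0 (σ z0)) :
    (E.twist σ hσ).ψ.range = E.ψ.range := by
  ext x
  constructor
  · rintro ⟨y, rfl⟩
    exact ⟨σ y, rfl⟩
  · rintro ⟨y, rfl⟩
    exact ⟨σ.symm y, by simp [twist]⟩

end Emb

end Cfsg.Agent.LFourThree
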