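import Cfsg.Agent.Lib.LFourThree.PointModel
import Cfsg.Agent.Lib.PLocal.Cores
import Mathlib.GroupTheory.GroupAction.Basic
import Cfsg.Prelude.Def_Local

/-!
# The stabilizer of a point is a maximal subgroup `3^3:SL(3,3)`
-/

set_option autoImplicit false
set_option maxRecDepth 100000
set_option linter.style.haveILetI false

namespace Cfsg.Agent.LFourThree

open Matrix

/-- A matrix with the given first column. -/
def colMat : Row → Mat3 := fun ⟨a, b, c⟩ =>
  if a ≠ 0 then ((a, 0, 0), (b, a, 0), (c, 0, 1))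
  else if b ≠ 0 then ((0, -b, 0), (b, 0, 0), (c, 0, 1))
  else ((0, c, 0), (0, 0, 1), (c, 0, 0))

/-- A matrix with the given first row. -/
def rowMat : Row → Mat3 := fun ⟨a, b, c⟩ =>
  if a ≠ 0 then ((a, b, c), (0, a, 0), (0, 0, 1))
  else if b ≠ 0 then ((0, b, c), (-b, 0, 0), (0, 0, 1))
  else ((0, 0, c), (c, 0, 0), (0, 1, 0))

theorem colMat_spec : ∀ v : Row, v ≠ 0 → mDet (colMat v) = 1 ∧
    (colMat v).1.1 = v.1 ∧ (colMat v).2.1.1 = v.2.1 ∧ (colMat v).2.2.1 = v.2.2 := by decide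

theorem rowMat_spec : ∀ v : Row, v ≠ 0 → mDet (rowMat v) = 1 ∧ rowMul (1, 0, 0) (rowMat v) = v := by decide

/-- The signed exchange of the first two coordinates. -/
def swap01 : SL43 := ⟨!![0, -1, 0, 0; 1, 0, 0, 0; 0, 0, 1, 0; 0, 0, 0, 1], by
  simp [Matrix.det_succ_row_zero, Fin.sum_univ_succ, Fin.succAbove]⟩

theorem mem_pointStab {A : SL43} : proj A ∈ pointStab ↔ A ∈ pointStabSL := by
  refine ⟨fun h => ?_, fun h => Subgroup.mem_map_of_mem _ h⟩
  obtain ⟨B, hB, e⟩ := h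
  rw [proj, QuotientGroup.mk'_apply, QuotientGroup.mk'_apply, QuotientGroup.eq,
    Matrix.SpecialLinearGroup.mem_center_iff] at e
  obtain ⟨c, -, hc⟩ := e
  intro i hi
  have hA : A = B * (B⁻¹ * A) := (mul_inv_cancel_left _ _).symm
  rw [hA, Matrix.SpecialLinearGroup.coe_mul, ← hc]
  simp [Matrix.scalar_apply, Matrix.mul_diagonal, hB i hi]

theorem isCoatom_pointStab : IsCoatom pointStab := by
  refine ⟨fun h => ?_, fun K hK => ?_⟩
  · have h' := mem_pointStab.1 (h ▸ Subgroup.mem_top (proj swap01))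
    exact absurd (h' 1 (by decide)) (by decide)
  obtain ⟨g, hgK, hg⟩ := SetLike.exists_of_lt hK
  have key : ∀ g : L43, g ∉ pointStab → ∃ a ∈ pointStab, ∃ b ∈ pointStab, g = a * proj swap01 * b := by
    intro g hg
    obtain ⟨A, rfl⟩ := QuotientGroup.mk'_surjective _ g
    change proj A ∉ pointStab at hg
    rw [mem_pointStab] at hg
    have hv : ((A.val 1 0, A.val 2 0, A.val 3 0) : Row) ≠ 0 := fun h => hg fun i hi => by
      simp only [Prod.ext_iff, Prod.fst_zero, Prod.snd_zero] at h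
      fin_cases i
      · exact absurd rfl hi
      · exact h.1
      · exact h.2.1
      · exact h.2.2
    obtain ⟨hd, h1, h2, h3⟩ := colMat_spec _ hv
    let a : Pt := ⟨((A.val 0 0, 0, 0), colMat (A.val 1 0, A.val 2 0, A.val 3 0)), hd⟩
    refine ⟨proj (toSL a), mem_pointStab.2 (toSL_mem a), proj ((toSL a * swap01)⁻¹ * A), ?_, ?_⟩
    · rw [mem_pointStab]
      have hcol : ∀ i, (toSL a * swap01).val i 0 = A.val i 0 := fun i => by
        rw [Matrix.SpecialLinearGroup.coe_mul]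
        fin_cases i <;>
          simp [toSL, bigMat, swap01, a, Matrix.mul_apply, Fin.sum_univ_four, h1, h2, h3]
      intro i hi
      rw [Matrix.SpecialLinearGroup.coe_mul, Matrix.mul_apply]
      simp only [← hcol]
      rw [← Matrix.mul_apply, ← Matrix.SpecialLinearGroup.coe_mul, inv_mul_cancel,
        Matrix.SpecialLinearGroup.coe_one, Matrix.one_apply_ne hi]
    · show proj A = _
      rw [← map_mul, ← map_mul, mul_inv_cancel_left]
  obtain ⟨a, ha, b, hb, e⟩ := key g hg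
  have hs : proj swap01 ∈ K := by
    have := K.mul_mem (K.mul_mem (K.inv_mem (hK.le ha)) hgK) (K.inv_mem (hK.le hb))
    rwa [show a⁻¹ * g * b⁻¹ = proj swap01 by rw [e]; group] at this
  refine (Subgroup.eq_top_iff' K).2 fun x => ?_
  by_cases hx : x ∈ pointStab
  · exact hK.le hx
  · obtain ⟨a', ha', b', hb', e'⟩ := key x hx
    rw [e']
    exact K.mul_mem (K.mul_mem (hK.le ha') hs) (hK.le hb')

/-- The matrix of degree three. -/
def sl3Mat (B : Mat3) : Matrix (Fin 3) (Fin 3) (ZMod 3) :=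
  !![B.1.1, B.1.2.1, B.1.2.2; B.2.1.1, B.2.1.2.1, B.2.1.2.2; B.2.2.1, B.2.2.2.1, B.2.2.2.2]

theorem det_sl3Mat (B : Mat3) : (sl3Mat B).det = mDet B := by
  simp [sl3Mat, Matrix.det_fin_three, mDet]
  ring

/-- The action on the normal subgroup. -/
def piSL : Pt →* SpecialLinearGroup (Fin 3) (ZMod 3) where
  toFun a := ⟨sl3Mat a.1.2, by rw [det_sl3Mat, a.2]⟩
  map_one' := Subtype.ext (by
    show sl3Mat (1 : Pt).1.2 = 1
    ext i j
    fin_cases i <;> fin_cases j <;> decide)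
  map_mul' a b := Subtype.ext (by
    show sl3Mat (a * b).1.2 = sl3Mat a.1.2 * sl3Mat b.1.2
    ext i j
    fin_cases i <;> fin_cases j <;>
      simp [sl3Mat, Matrix.mul_apply, Fin.sum_univ_three, Pt.mul_val, mMul, rowMul])

theorem piSL_surjective : Function.Surjective piSL := by
  intro A
  let B : Mat3 := ((A.val 0 0, A.val 0 1, A.val 0 2), (A.val 1 0, A.val 1 1, A.val 1 2), A.val 2 0, A.val 2 1,
    A.val 2 2)
  have e : sl3Mat B = A.val := by
    ext i j
    fin_cases i <;> fin_cases j <;> simp [sl3Mat, B]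
  exact ⟨⟨(0, B), by show mDet B = 1; rw [← det_sl3Mat, e, A.prop]⟩, Subtype.ext e⟩

theorem mem_ker_piSL {a : Pt} : a ∈ piSL.ker ↔ a.1.2 = mOne := by
  refine ⟨fun h => ?_, fun h => MonoidHom.mem_ker.2 (Subtype.ext ?_)⟩
  · have h' : sl3Mat a.1.2 = 1 := congrArg (fun x : SpecialLinearGroup (Fin 3) (ZMod 3) => x.val) (MonoidHom.mem_ker.1 h)
    have e : ∀ i j, sl3Mat a.1.2 i j = (1 : Matrix (Fin 3) (Fin 3) (ZMod 3)) i j := fun i j => by rw [h']
    have := e 0 0; have := e 0 1; have := e 0 2; have := e 1 0; have := e 1 1; have := e 1 2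
    have := e 2 0; have := e 2 1; have := e 2 2
    simp [sl3Mat] at *
    simp [mOne, Prod.ext_iff, *]
  · show sl3Mat a.1.2 = 1
    rw [h]
    ext i j
    fin_cases i <;> fin_cases j <;> decide

/-- The normal subgroup is the group of rows. -/
def kerEquiv : piSL.ker ≃ Row where
  toFun a := a.1.1.1
  invFun r := ⟨⟨(r, mOne), mDet_one⟩, mem_ker_piSL.2 rfl⟩
  left_inv a := Subtype.ext (Subtype.ext (Prod.ext rfl (mem_ker_piSL.1 a.2).symm))
  right_inv _ := rfl

theorem card_ker_piSL : Nat.card piSL.ker = 27 := by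
  rw [Nat.card_congr kerEquiv]
  simp [Nat.card_prod, Nat.card_zmod]

instance : Finite Pt := inferInstance

theorem mAdj_rowMat : ∀ u : Row, u ≠ 0 → mAdj (mAdj (rowMat u)) = rowMat u := by decide

theorem unit_rows : ((1, 0, 0) : Row) ≠ 0 ∧ ((0, 1, 0) : Row) ≠ 0 ∧ ((0, 0, 1) : Row) ≠ 0 := by decide

theorem pCore_Pt : Cfsg.pCore 3 Pt = piSL.ker := by
  haveI : Fact (Nat.Prime 3) := ⟨Nat.prime_three⟩
  have hk : IsPGroup 3 piSL.ker := IsPGroup.of_card (n := 3) (by rw [card_ker_piSL]; norm_num)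
  refine le_antisymm ?_ (PLocal.Cores.le_pCore hk)
  letI : MulAction Pt Row :=
    { smul := fun a v => rowMul v (mAdj a.1.2)
      one_smul := fun v => by
        show rowMul v (mAdj (1 : Pt).1.2) = v
        rw [show mAdj (1 : Pt).1.2 = mOne by decide, rowMul_one]
      mul_smul := fun a b v => by
        show rowMul v (mAdj (a * b).1.2) = rowMul (rowMul v (mAdj b.1.2)) (mAdj a.1.2)
        rw [rowMul_assoc]
        refine congrArg (rowMul v) ?_
        have := congrArg (fun x : Pt => x.1.2) (mul_inv_rev a b)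
        exact this }
  have hsmul : ∀ (a : Pt) (v : Row), a • v = rowMul v (mAdj a.1.2) := fun _ _ => rfl
  set N := Cfsg.pCore 3 Pt
  have hN : IsPGroup 3 N := PLocal.Cores.isPGroup_pCore
  haveI : N.Normal := inferInstance
  obtain ⟨v, hv, hne⟩ : ∃ v : Row, v ∈ MulAction.fixedPoints N Row ∧ v ≠ 0 := by
    have h := hN.card_modEq_card_fixedPoints Row
    have h0 : (0 : Row) ∈ MulAction.fixedPoints N Row := fun a => rowMul_zero _
    rw [show Nat.card Row = 27 by simp [Nat.card_prod, Nat.card_zmod]] at h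
    have hdiv : 3 ∣ Nat.card (MulAction.fixedPoints N Row) := by
      unfold Nat.ModEq at h
      omega
    haveI : Nonempty (MulAction.fixedPoints N Row) := ⟨⟨0, h0⟩⟩
    have hpos := Nat.card_pos (α := MulAction.fixedPoints N Row)
    have : 1 < Nat.card (MulAction.fixedPoints N Row) := by omega
    rw [Finite.one_lt_card_iff_nontrivial] at this
    obtain ⟨w, hw⟩ := exists_ne (⟨0, h0⟩ : MulAction.fixedPoints N Row)
    exact ⟨w.1, w.2, fun e => hw (Subtype.ext e)⟩
  have hall : ∀ w : Row, w ≠ 0 → ∀ n ∈ N, n • w = w := by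
    intro w hw n hn
    obtain ⟨g, rfl⟩ : ∃ g : Pt, g • v = w := by
      have h1 : ∀ u : Row, u ≠ 0 → ∃ g : Pt, g • ((1, 0, 0) : Row) = u := fun u hu =>
        ⟨⟨(0, rowMat u), (rowMat_spec u hu).1⟩⁻¹, by
          rw [hsmul, Pt.inv_val]
          show rowMul (1, 0, 0) (mAdj (mAdj (rowMat u))) = u
          rw [mAdj_rowMat u hu, (rowMat_spec u hu).2]⟩
      obtain ⟨g1, h1v⟩ := h1 v hne
      obtain ⟨g2, h2w⟩ := h1 w hw
      exact ⟨g2 * g1⁻¹, by rw [mul_smul, ← h1v, inv_smul_smul, h2w]⟩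
    have := hv ⟨g⁻¹ * n * g⁻¹⁻¹, ‹N.Normal›.conj_mem n hn g⁻¹⟩
    change (g⁻¹ * n * g⁻¹⁻¹) • v = v at this
    rw [inv_inv, mul_smul, mul_smul, inv_smul_eq_iff] at this
    exact this
  intro n hn
  rw [← inv_mem_iff]
  refine mem_ker_piSL.2 ?_
  have hrow : ∀ B : Mat3, mMul mOne B = B := mOne_mul
  have e1 := hall (1, 0, 0) unit_rows.1 n hn
  have e2 := hall (0, 1, 0) unit_rows.2.1 n hn
  have e3 := hall (0, 0, 1) unit_rows.2.2 n hn
  rw [hsmul] at e1 e2 e3
  show mAdj n.1.2 = mOne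
  rw [← hrow (mAdj n.1.2)]
  simp only [mMul, mOne, e1, e2, e3]

theorem pointStab_facts : IsCoatom pointStab ∧ Nat.card (Cfsg.pCore 3 pointStab) = 27 ∧
    Nonempty (pointStab ⧸ Cfsg.pCore 3 pointStab ≃* Matrix.SpecialLinearGroup (Fin 3) (ZMod 3)) := by
  refine ⟨isCoatom_pointStab, ?_, ?_⟩
  · rw [← PLocal.Cores.map_pCore_equiv stabEquiv,
      Subgroup.card_map_of_injective (f := stabEquiv.toMonoidHom) stabEquiv.injective, pCore_Pt, card_ker_piSL]
  · have e := (PLocal.Cores.map_pCore_equiv (p := 3) stabEquiv.symm).trans pCore_Pt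
    exact ⟨(QuotientGroup.congr _ _ stabEquiv.symm e).trans
      (QuotientGroup.quotientKerEquivOfSurjective piSL piSL_surjective)⟩

end Cfsg.Agent.LFourThree
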