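import Cfsg.Agent.Lib.LFourThree.Base
import Mathlib.Tactic.LinearCombination
import Mathlib.Tactic.FinCases
import Mathlib.Algebra.Group.Subgroup.Finite
import Mathlib.Algebra.Group.MinimalAxioms

/-!
# The stabilizer of a point as pairs of a row and a matrix of degree three
-/

set_option autoImplicit false
set_option maxRecDepth 100000

namespace Cfsg.Agent.LFourThree

open Matrix

/-- A row. -/
abbrev Row := ZMod 3 × ZMod 3 × ZMod 3

/-- A matrix by its rows. -/
abbrev Mat3 := Row × Row × Row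

/-- The product of a row and a matrix. -/
def rowMul (r : Row) (C : Mat3) : Row :=
  (r.1 * C.1.1 + r.2.1 * C.2.1.1 + r.2.2 * C.2.2.1,
    r.1 * C.1.2.1 + r.2.1 * C.2.1.2.1 + r.2.2 * C.2.2.2.1,
    r.1 * C.1.2.2 + r.2.1 * C.2.1.2.2 + r.2.2 * C.2.2.2.2)

/-- The product of two matrices. -/
def mMul (B C : Mat3) : Mat3 := (rowMul B.1 C, rowMul B.2.1 C, rowMul B.2.2 C)

/-- The identity matrix. -/
def mOne : Mat3 := ((1, 0, 0), (0, 1, 0), (0, 0, 1))

/-- The determinant. -/
def mDet (B : Mat3) : ZMod 3 :=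
  B.1.1 * (B.2.1.2.1 * B.2.2.2.2 - B.2.1.2.2 * B.2.2.2.1) - B.1.2.1 * (B.2.1.1 * B.2.2.2.2 - B.2.1.2.2 * B.2.2.1) +
    B.1.2.2 * (B.2.1.1 * B.2.2.2.1 - B.2.1.2.1 * B.2.2.1)

/-- The adjugate. -/
def mAdj : Mat3 → Mat3 := fun ⟨⟨a, b, c⟩, ⟨d, e, f⟩, ⟨g, h, i⟩⟩ =>
  ((e * i - f * h, c * h - b * i, b * f - c * e),
    (f * g - d * i, a * i - c * g, c * d - a * f),
    (d * h - e * g, b * g - a * h, a * e - b * d))

theorem mDet_mul (B C : Mat3) : mDet (mMul B C) = mDet B * mDet C := by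
  simp only [mDet, mMul, rowMul]; ring

theorem mMul_assoc (B C D : Mat3) : mMul (mMul B C) D = mMul B (mMul C D) := by
  simp only [mMul, rowMul, Prod.mk.injEq]; refine ⟨⟨?_, ?_, ?_⟩, ⟨?_, ?_, ?_⟩, ⟨?_, ?_, ?_⟩⟩ <;> ring

theorem rowMul_assoc (r : Row) (C D : Mat3) : rowMul (rowMul r C) D = rowMul r (mMul C D) := by
  simp only [mMul, rowMul, Prod.mk.injEq]; refine ⟨?_, ?_, ?_⟩ <;> ring

theorem rowMul_add (r s : Row) (C : Mat3) : rowMul (r + s) C = rowMul r C + rowMul s C := by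
  simp only [rowMul, Prod.fst_add, Prod.snd_add, Prod.mk_add_mk, Prod.mk.injEq]; refine ⟨?_, ?_, ?_⟩ <;> ring

theorem rowMul_zero (C : Mat3) : rowMul 0 C = 0 := by simp [rowMul, Prod.ext_iff]

theorem rowMul_one (r : Row) : rowMul r mOne = r := by simp [rowMul, mOne]

theorem mOne_mul (B : Mat3) : mMul mOne B = B := by simp [mMul, rowMul, mOne]

theorem mDet_one : mDet mOne = 1 := by decide

theorem mAdj_mul {B : Mat3} (h : mDet B = 1) : mMul (mAdj B) B = mOne := by
  obtain ⟨⟨a, b, c⟩, ⟨d, e, f⟩, ⟨g, i, j⟩⟩ := B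
  simp only [mDet] at h
  simp only [mMul, rowMul, mAdj, mOne, Prod.mk.injEq]
  refine ⟨⟨?_, ?_, ?_⟩, ⟨?_, ?_, ?_⟩, ⟨?_, ?_, ?_⟩⟩ <;> first | linear_combination h | linear_combination (0 : ZMod 3) * h

theorem mDet_adj {B : Mat3} (h : mDet B = 1) : mDet (mAdj B) = 1 := by
  have := congrArg mDet (mAdj_mul h)
  rwa [mDet_mul, h, mul_one, mDet_one] at this

/-- The pairs. -/
abbrev Pt := { a : Row × Mat3 // mDet a.2 = 1 }

instance : Mul Pt := ⟨fun a b => ⟨(b.1.1 + rowMul a.1.1 b.1.2, mMul a.1.2 b.1.2), by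
  show mDet (mMul a.1.2 b.1.2) = 1
  rw [mDet_mul, a.2, b.2, one_mul]⟩⟩

instance : One Pt := ⟨⟨(0, mOne), mDet_one⟩⟩

instance : Inv Pt := ⟨fun a => ⟨(-rowMul a.1.1 (mAdj a.1.2), mAdj a.1.2), mDet_adj a.2⟩⟩

theorem Pt.mul_val (a b : Pt) : (a * b).1 = (b.1.1 + rowMul a.1.1 b.1.2, mMul a.1.2 b.1.2) := rfl

theorem Pt.one_val : (1 : Pt).1 = (0, mOne) := rfl

theorem Pt.inv_val (a : Pt) : (a⁻¹).1 = (-rowMul a.1.1 (mAdj a.1.2), mAdj a.1.2) := rfl

instance : Group Pt := Group.ofLeftAxioms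
  (fun a b c => Subtype.ext (by
    simp only [Pt.mul_val, mMul_assoc, rowMul_add, rowMul_assoc, add_assoc]))
  (fun a => Subtype.ext (by simp only [Pt.mul_val, Pt.one_val, rowMul_zero, add_zero, mOne_mul]))
  (fun a => Subtype.ext (by
    simp only [Pt.mul_val, Pt.one_val, Pt.inv_val, mAdj_mul a.2, Prod.mk.injEq, and_true]
    have h : rowMul (-rowMul a.1.1 (mAdj a.1.2)) a.1.2 = -a.1.1 := by
      have e := rowMul_assoc a.1.1 (mAdj a.1.2) a.1.2
      rw [mAdj_mul a.2, rowMul_one] at e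
      have n : rowMul (-rowMul a.1.1 (mAdj a.1.2)) a.1.2 + rowMul (rowMul a.1.1 (mAdj a.1.2)) a.1.2 = 0 := by
        rw [← rowMul_add, neg_add_cancel, rowMul_zero]
      rw [e] at n
      exact eq_neg_of_add_eq_zero_left n
    rw [h, add_neg_cancel]))

/-- The matrix of degree four of a pair. -/
def bigMat (a : Row × Mat3) : Matrix (Fin 4) (Fin 4) (ZMod 3) :=
  !![1, a.1.1, a.1.2.1, a.1.2.2;
    0, a.2.1.1, a.2.1.2.1, a.2.1.2.2;
    0, a.2.2.1.1, a.2.2.1.2.1, a.2.2.1.2.2;
    0, a.2.2.2.1, a.2.2.2.2.1, a.2.2.2.2.2]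

theorem det_bigMat (a : Row × Mat3) : (bigMat a).det = mDet a.2 := by
  simp [bigMat, Matrix.det_succ_row_zero, Fin.sum_univ_succ, mDet, Fin.succAbove]
  ring

/-- The element of the linear group. -/
def toSL (a : Pt) : SL43 := ⟨bigMat a.1, by rw [det_bigMat, a.2]⟩

theorem toSL_mem (a : Pt) : toSL a ∈ pointStabSL := fun i hi => by
  fin_cases i <;> first | exact absurd rfl hi | rfl

theorem toSL_mul (a b : Pt) : toSL (a * b) = toSL a * toSL b := by
  apply Subtype.ext
  show bigMat (a * b).1 = bigMat a.1 * bigMat b.1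
  ext i j
  fin_cases i <;> fin_cases j <;>
    simp [bigMat, Matrix.mul_apply, Fin.sum_univ_four, Pt.mul_val, mMul, rowMul] <;> ring

theorem toSL_one : toSL 1 = 1 := by
  apply Subtype.ext
  show bigMat (1 : Pt).1 = 1
  ext i j
  fin_cases i <;> fin_cases j <;> decide

/-- The homomorphism into the stabilizer. -/
def toStab : Pt →* pointStab where
  toFun a := ⟨proj (toSL a), Subgroup.mem_map_of_mem _ (toSL_mem a)⟩
  map_one' := Subtype.ext (by
    simp only [toSL_one, map_one, Subgroup.coe_one])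
  map_mul' a b := Subtype.ext (by
    simp only [toSL_mul, map_mul, Subgroup.coe_mul])

instance fact_even_four : Fact (Even (Fintype.card (Fin 4))) := ⟨by decide⟩

theorem proj_neg_one : proj (-1 : SL43) = 1 := by
  refine (QuotientGroup.eq_one_iff _).2 ?_
  rw [Matrix.SpecialLinearGroup.mem_center_iff]
  refine ⟨-1, by decide, ?_⟩
  ext i j
  fin_cases i <;> fin_cases j <;> decide

theorem toStab_surjective : Function.Surjective toStab := by
  rintro ⟨_, A, hA, rfl⟩
  have key : ∀ A : SL43, A ∈ pointStabSL → A.val 0 0 = 1 →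
      ∃ a : Pt, toSL a = A := by
    intro A hA h0
    have h1 := hA 1 (by decide); have h2 := hA 2 (by decide); have h3 := hA 3 (by decide)
    let a : Row × Mat3 := ((A.val 0 1, A.val 0 2, A.val 0 3), (A.val 1 1, A.val 1 2, A.val 1 3),
      (A.val 2 1, A.val 2 2, A.val 2 3), A.val 3 1, A.val 3 2, A.val 3 3)
    have e : bigMat a = A.val := by
      ext i j
      fin_cases i <;> fin_cases j <;> simp [bigMat, a, h0, h1, h2, h3]
    exact ⟨⟨a, by rw [← det_bigMat, e, A.prop]⟩, Subtype.ext e⟩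
  have h0 : A.val 0 0 ≠ 0 := fun h => by
    have hd := A.prop
    rw [Matrix.det_eq_zero_of_column_eq_zero (0 : Fin 4) (fun k => by
      by_cases hk : k = 0
      · rw [hk]; exact h
      · exact hA k hk)] at hd
    exact zero_ne_one hd
  rcases (by decide : ∀ x : ZMod 3, x ≠ 0 → x = 1 ∨ x = -1) _ h0 with h | h
  · obtain ⟨a, ha⟩ := key A hA h
    exact ⟨a, Subtype.ext (by simp [toStab, ha])⟩
  · obtain ⟨a, ha⟩ := key (-A) (fun i hi => by
      simp [Matrix.SpecialLinearGroup.coe_neg, hA i hi]) (by simp [Matrix.SpecialLinearGroup.coe_neg, h])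
    refine ⟨a, Subtype.ext ?_⟩
    show proj (toSL a) = proj A
    rw [ha, show -A = -1 * A by simp, map_mul, proj_neg_one, one_mul]

theorem toStab_injective : Function.Injective toStab := by
  intro a b h
  have h' : proj (toSL a) = proj (toSL b) := congrArg Subtype.val h
  rw [proj, QuotientGroup.mk'_apply, QuotientGroup.mk'_apply, QuotientGroup.eq,
    Matrix.SpecialLinearGroup.mem_center_iff] at h'
  obtain ⟨c, -, hc⟩ := h'
  have e : (toSL b).val = c • (toSL a).val := by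
    have : toSL b = toSL a * ((toSL a)⁻¹ * toSL b) := (mul_inv_cancel_left _ _).symm
    rw [this, Matrix.SpecialLinearGroup.coe_mul, ← hc]
    ext i j
    simp [Matrix.scalar_apply, Matrix.mul_diagonal, mul_comm]
  have hc1 : c = 1 := by
    have := congrFun (congrFun e 0) 0
    simpa [toSL, bigMat] using this.symm
  rw [hc1, one_smul] at e
  have ej : ∀ i j, bigMat b.1 i j = bigMat a.1 i j := fun i j => congrFun (congrFun e i) j
  refine Subtype.ext ?_
  have h01 := ej 0 1; have h02 := ej 0 2; have h03 := ej 0 3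
  have h11 := ej 1 1; have h12 := ej 1 2; have h13 := ej 1 3
  have h21 := ej 2 1; have h22 := ej 2 2; have h23 := ej 2 3
  have h31 := ej 3 1; have h32 := ej 3 2; have h33 := ej 3 3
  simp [bigMat] at h01 h02 h03 h11 h12 h13 h21 h22 h23 h31 h32 h33
  ext <;> simp [*]

/-- The stabilizer is the group of pairs. -/
noncomputable def stabEquiv : Pt ≃* pointStab :=
  MulEquiv.ofBijective toStab ⟨toStab_injective, toStab_surjective⟩

end Cfsg.Agent.LFourThree
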